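import Groth.Prelude.Def_DRing2
import Mathlib

/-!
# Spreading chain maps and exactness from a localisation
-/

set_option autoImplicit false
set_option linter.style.haveILetI false
set_option backward.isDefEq.respectTransparency false
set_option backward.isDefEq.respectTransparency.types false
set_option maxHeartbeats 1000000

universe u

open CategoryTheory Limits TensorProduct

noncomputable section

namespace Groth.Agent.NearIso

section Lin

variable {A : Type u} [CommRing A] (M : Submonoid A)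

theorem exists_lift_smul {P T T' : Type u} [AddCommGroup P] [Module A P] [Module.Finite A P] [Module.Projective A P]
    [AddCommGroup T] [Module A T] [AddCommGroup T'] [Module A T'] (η : T →ₗ[A] T') [IsLocalizedModule M η]
    (f : P →ₗ[A] T') : ∃ (s : M) (g : P →ₗ[A] T), η.comp g = (s : A) • f := by
  classical
  obtain ⟨n, p, hp⟩ := Module.Finite.exists_fin' A P
  obtain ⟨σ, hσ⟩ := Module.projective_lifting_property p LinearMap.id hp
  have h : ∀ j : Fin n, ∃ q : T × M, (q.2 : A) • f (p (Pi.single j 1)) = η q.1 := fun j =>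
    IsLocalizedModule.surj M η _
  choose q hq using h
  let w : Fin n → T := fun j => ((∏ k ∈ Finset.univ.erase j, (q k).2 : M) : A) • (q j).1
  refine ⟨∏ k, (q k).2, ((Pi.basisFun A (Fin n)).constr A w).comp σ, ?_⟩
  have h' : η.comp ((Pi.basisFun A (Fin n)).constr A w) = ((∏ k, (q k).2 : M) : A) • f.comp p :=
    (Pi.basisFun A (Fin n)).ext fun j => by
      rw [LinearMap.comp_apply, Module.Basis.constr_basis, LinearMap.smul_apply, LinearMap.comp_apply, map_smul,
        ← hq j, smul_smul, ← Submonoid.coe_mul, mul_comm, Finset.mul_prod_erase _ (fun k => (q k).2) (Finset.mem_univ j),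
        Pi.basisFun_apply]
  rw [← LinearMap.comp_assoc, h', LinearMap.smul_comp, LinearMap.comp_assoc, hσ, LinearMap.comp_id]

theorem exists_kill {P T T' : Type u} [AddCommGroup P] [Module A P] [Module.Finite A P]
    [AddCommGroup T] [Module A T] [AddCommGroup T'] [Module A T'] (η : T →ₗ[A] T') [IsLocalizedModule M η]
    (h : P →ₗ[A] T) (h0 : η.comp h = 0) : ∃ s : M, (s : A) • h = 0 := by
  classical
  obtain ⟨n, p, hp⟩ := Module.Finite.exists_fin' A P
  have hk : ∀ j : Fin n, ∃ s : M, (s : A) • h (p (Pi.single j 1)) = 0 := fun j => by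
    obtain ⟨s, hs⟩ := IsLocalizedModule.exists_of_eq (S := M) (f := η) (x₁ := h (p (Pi.single j 1))) (x₂ := 0)
      ((LinearMap.congr_fun h0 _).trans (map_zero η).symm)
    exact ⟨s, hs.trans (smul_zero _)⟩
  choose s hs using hk
  refine ⟨∏ j, s j, ?_⟩
  have h' : ((∏ j, s j : M) : A) • h.comp p = 0 := (Pi.basisFun A (Fin n)).ext fun j => by
    rw [LinearMap.smul_apply, LinearMap.comp_apply, Pi.basisFun_apply, LinearMap.zero_apply,
      ← Finset.prod_erase_mul _ _ (Finset.mem_univ j), Submonoid.coe_mul, mul_smul, hs, smul_zero]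
  refine LinearMap.ext fun x => ?_
  obtain ⟨y, rfl⟩ := hp x
  exact LinearMap.congr_fun h' y

end Lin

variable {A R : Type u} [CommRing A] [CommRing R] (φ : A →+* R) (M : Submonoid A)

/-- The base change of complexes. -/
abbrev extC : DRing.Cx A ⥤ DRing.Cx R :=
  (ModuleCat.extendScalars.{u, u, u} φ).mapHomologicalComplex (ComplexShape.up ℤ)

/-- The base change of modules. -/
abbrev ext : ModuleCat.{u} A ⥤ ModuleCat.{u} R := ModuleCat.extendScalars.{u, u, u} φ

/-- The map to the base change. -/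
def η (T : ModuleCat.{u} A) : T →ₗ[A] ((ModuleCat.restrictScalars φ).obj ((ext φ).obj T)) :=
  ((ModuleCat.extendRestrictScalarsAdj φ).unit.app T).hom

lemma isLocalizedModule_η (hloc : letI := φ.toAlgebra; IsLocalization M R) (T : ModuleCat.{u} A) :
    IsLocalizedModule M (η φ T) := by
  letI := φ.toAlgebra
  haveI : IsLocalization M R := hloc
  exact @Iff.mpr _ _ (isLocalizedModule_iff_isBaseChange M R (TensorProduct.mk A R T 1)) (TensorProduct.isBaseChange _ _ _)

lemma map_η {P T : ModuleCat.{u} A} (g : P ⟶ T) (x : P) :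
    ((ext φ).map g).hom (η φ P x) = η φ T (g.hom x) :=
  (congrArg (fun k => k.hom x) ((ModuleCat.extendRestrictScalarsAdj φ).unit.naturality g)).symm

lemma ext_hom_ext {P : ModuleCat.{u} A} {N : ModuleCat.{u} R} {α β : (ext φ).obj P ⟶ N}
    (h : ∀ x, α.hom (η φ P x) = β.hom (η φ P x)) : α = β :=
  ((ModuleCat.extendRestrictScalarsAdj φ).homEquiv P N).injective (ModuleCat.hom_ext (LinearMap.ext h))

/-- A chain map between base changes is a multiple of the base change of a chain map. -/
theorem exists_chainMap (hloc : letI := φ.toAlgebra; IsLocalization M R) (P T : DRing.Cx A) (a b : ℤ)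
    (hP : DRing.VanishesOutside P a b) (hp : DRing.TermwiseFiniteProjective P)
    (ψ : (extC φ).obj P ⟶ (extC φ).obj T) :
    ∃ (s : M) (g : P ⟶ T), ∀ i x, ((ext φ).map (g.f i)).hom (η φ (P.X i) x) = φ s • (ψ.f i).hom (η φ (P.X i) x) := by
  classical
  haveI : ∀ i, Module.Finite A (P.X i) := fun i => (hp i).1
  haveI : ∀ i, Module.Projective A (P.X i) := fun i => (hp i).2
  haveI : ∀ i, IsLocalizedModule M (η φ (T.X i)) := fun i => isLocalizedModule_η φ M hloc _
  let f : ∀ i, P.X i →ₗ[A] ((ModuleCat.restrictScalars φ).obj ((ext φ).obj (T.X i))) := fun i =>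
    (((ModuleCat.extendRestrictScalarsAdj φ).homEquiv (P.X i) ((ext φ).obj (T.X i))) (ψ.f i)).hom
  have hf : ∀ i x, f i x = (ψ.f i).hom (η φ (P.X i) x) := fun _ _ => rfl
  choose s₀ g₀ hg₀ using fun i => exists_lift_smul M (η φ (T.X i)) (f i)
  let s : M := ∏ i ∈ Finset.Icc a b, s₀ i
  let g : ∀ i, P.X i →ₗ[A] T.X i := fun i =>
    if i ∈ Finset.Icc a b then ((∏ k ∈ (Finset.Icc a b).erase i, s₀ k : M) : A) • g₀ i else 0
  have hg : ∀ i x, η φ (T.X i) (g i x) = φ s • (ψ.f i).hom (η φ (P.X i) x) := fun i x => by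
    by_cases hi : i ∈ Finset.Icc a b
    · simp only [g, if_pos hi, LinearMap.smul_apply, map_smul]
      rw [show η φ (T.X i) (g₀ i x) = (s₀ i : A) • f i x from LinearMap.congr_fun (hg₀ i) x, smul_smul,
        ← Submonoid.coe_mul, Finset.prod_erase_mul _ _ hi, hf]
      rfl
    · have h0 : x = 0 := by
        haveI := ModuleCat.subsingleton_of_isZero (hP i (by rw [Finset.mem_Icc] at hi; omega))
        exact Subsingleton.elim _ _
      subst h0
      simp
  have hd : ∀ i, ∃ t : M, (t : A) • ((T.d i (i + 1)).hom.comp (g i) - (g (i + 1)).comp (P.d i (i + 1)).hom) = 0 :=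
    fun i => by
    refine exists_kill M (η φ (T.X (i + 1))) _ (LinearMap.ext fun x => ?_)
    rw [LinearMap.comp_apply, LinearMap.sub_apply, map_sub, LinearMap.comp_apply, LinearMap.comp_apply,
      LinearMap.zero_apply, ← map_η, hg, hg, ← map_η φ (P.d i (i + 1))]
    refine sub_eq_zero.2 ?_
    have h : ((ext φ).map (T.d i (i + 1))).hom ((ψ.f i).hom (η φ (P.X i) x)) =
        (ψ.f (i + 1)).hom (((ext φ).map (P.d i (i + 1))).hom (η φ (P.X i) x)) :=
      congrArg (fun k => k.hom (η φ (P.X i) x)) (ψ.comm i (i + 1))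
    rw [map_smul, h]
  choose t₀ ht₀ using hd
  let t : M := ∏ i ∈ Finset.Icc a b, t₀ i
  let G : P ⟶ T :=
    { f := fun i => ModuleCat.ofHom ((t : A) • g i)
      comm' := fun i k hik => by
        obtain rfl : i + 1 = k := hik
        refine ModuleCat.hom_ext (LinearMap.ext fun x => ?_)
        change (T.d i (i + 1)).hom ((t : A) • g i x) = (t : A) • g (i + 1) ((P.d i (i + 1)).hom x)
        by_cases hi : i ∈ Finset.Icc a b
        · obtain ⟨c, hc⟩ : (t₀ i : A) ∣ (t : A) := by
            rw [show (t : A) = ∏ k ∈ Finset.Icc a b, (t₀ k : A) from Submonoid.coe_finsetProd ..]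
            exact Finset.dvd_prod_of_mem (fun k => (t₀ k : A)) hi
          rw [map_smul, hc, mul_comm, mul_smul, mul_smul, ← sub_eq_zero, ← smul_sub]
          have := LinearMap.congr_fun (ht₀ i) x
          rw [LinearMap.smul_apply, LinearMap.sub_apply, LinearMap.zero_apply] at this
          rw [← smul_sub]
          exact (congrArg (c • ·) this).trans (smul_zero c)
        · haveI := ModuleCat.subsingleton_of_isZero (hP i (by rw [Finset.mem_Icc] at hi; omega))
          rw [Subsingleton.elim x 0]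
          simp }
  refine ⟨t * s, G, fun i x => ?_⟩
  rw [map_η]
  change η φ (T.X i) ((t : A) • g i x) = _
  rw [map_smul, hg, Submonoid.coe_mul, map_mul, mul_smul]
  rfl

section Exact

variable {K : DRing.Cx A} (b i₀ : ℤ) (hb : DRing.VanishesAbove K b)
  (hp : ∀ i, i₀ < i → Module.Finite A (K.X i) ∧ Module.Projective A (K.X i))
  (hx : ∀ i, i₀ ≤ i → ∀ z : K.X i, (K.d i (i + 1)).hom z = 0 →
    ∃ t : M, ∃ y : K.X (i - 1), (K.d (i - 1) i).hom y = (t : A) • z)

/-- A multiple of the identity on cycles of degree `i + 1` lifts. -/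
def Lifts (i : ℤ) : Prop :=
  ∃ (s : M) (h : K.X (i + 1) →ₗ[A] K.X i), ∀ y, (K.d (i + 1) (i + 1 + 1)).hom y = 0 →
    (K.d i (i + 1)).hom (h y) = (s : A) • y

include hx in
lemma exists_im {i : ℤ} (hi : i₀ ≤ i) [Module.Finite A (K.X i)] (hL : Lifts M (K := K) i) :
    ∃ (s t : M) (e : K.X i →ₗ[A] K.X i), (∀ z, (K.d i (i + 1)).hom z = 0 → e z = (s : A) • z) ∧
      ∀ x, ∃ y : K.X (i - 1), (K.d (i - 1) i).hom y = (t : A) • e x := by
  classical
  obtain ⟨s, h, hh⟩ := hL
  let e : K.X i →ₗ[A] K.X i := (s : A) • LinearMap.id - h.comp (K.d i (i + 1)).hom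
  have hdd : ∀ x, (K.d (i + 1) (i + 1 + 1)).hom ((K.d i (i + 1)).hom x) = 0 := fun x =>
    congrArg (fun k => k.hom x) (K.d_comp_d i (i + 1) (i + 1 + 1))
  have hde : ∀ x, (K.d i (i + 1)).hom (e x) = 0 := fun x => by
    simp only [e, LinearMap.sub_apply, LinearMap.smul_apply, LinearMap.id_apply, LinearMap.comp_apply, map_sub, map_smul]
    rw [hh _ (hdd x), sub_self]
  obtain ⟨n, p, hp'⟩ := Module.Finite.exists_fin' A (K.X i)
  choose t₀ y₀ hy₀ using fun j : Fin n => hx i hi (e (p (Pi.single j 1))) (hde _)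
  refine ⟨s, ∏ j, t₀ j, e, fun z hz => ?_, fun x => ?_⟩
  · simp only [e, LinearMap.sub_apply, LinearMap.smul_apply, LinearMap.id_apply, LinearMap.comp_apply, hz, map_zero, sub_zero]
  obtain ⟨v, rfl⟩ := hp' x
  let L : (Fin n → A) →ₗ[A] K.X (i - 1) :=
    (Pi.basisFun A (Fin n)).constr A fun j => ((∏ k ∈ Finset.univ.erase j, t₀ k : M) : A) • y₀ j
  have hL' : (K.d (i - 1) i).hom.comp L = ((∏ j, t₀ j : M) : A) • e.comp p := (Pi.basisFun A (Fin n)).ext fun j => by
    rw [LinearMap.comp_apply, Module.Basis.constr_basis, map_smul, hy₀, LinearMap.smul_apply, LinearMap.comp_apply,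
      smul_smul, ← Submonoid.coe_mul, Finset.prod_erase_mul _ _ (Finset.mem_univ j), Pi.basisFun_apply]
  exact ⟨L v, LinearMap.congr_fun hL' v⟩

include hb hp hx in
lemma lifts : ∀ (n : ℕ) (i : ℤ), b ≤ i + n → i₀ ≤ i → Lifts M (K := K) i
  | 0, i, hi, _ => by
    haveI := ModuleCat.subsingleton_of_isZero (hb (i + 1) (by omega))
    exact ⟨1, 0, fun y _ => by rw [Subsingleton.elim y 0]; simp⟩
  | n + 1, i, hi, hi₀ => by
    haveI := (hp (i + 1) (by omega)).1
    haveI := (hp (i + 1) (by omega)).2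
    obtain ⟨s, t, e, he, him⟩ := exists_im M i₀ hx (by omega : i₀ ≤ i + 1) (lifts n (i + 1) (by omega) (by omega))
    rw [add_sub_cancel_right] at him
    have hle : LinearMap.range ((t : A) • e) ≤ LinearMap.range (K.d i (i + 1)).hom := by
      rintro _ ⟨x, rfl⟩
      obtain ⟨y, hy⟩ := him x
      exact ⟨y, hy⟩
    obtain ⟨h, hh⟩ := Module.projective_lifting_property (K.d i (i + 1)).hom.rangeRestrict
      ((((t : A) • e).codRestrict (LinearMap.range (K.d i (i + 1)).hom) fun x => hle ⟨x, rfl⟩))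
      (LinearMap.surjective_rangeRestrict _)
    refine ⟨t * s, h, fun y hy => ?_⟩
    have := congrArg Subtype.val (LinearMap.congr_fun hh y)
    refine this.trans ?_
    change (t : A) • e y = _
    rw [he y hy, smul_smul]
    rfl

include hb hp hx in
/-- Cohomology vanishing after localisation is killed by one element. -/
theorem exists_annihilate [Module.Finite A (K.X i₀)] :
    ∃ s : M, ∀ i, i₀ ≤ i → ∀ z : K.X i, (K.d i (i + 1)).hom z = 0 →
      ∃ y : K.X (i - 1), (K.d (i - 1) i).hom y = (s : A) • z := by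
  classical
  have hi : ∀ i, i₀ ≤ i → ∃ s : M, ∀ z : K.X i, (K.d i (i + 1)).hom z = 0 →
      ∃ y : K.X (i - 1), (K.d (i - 1) i).hom y = (s : A) • z := fun i hi => by
    haveI : Module.Finite A (K.X i) := by
      rcases eq_or_lt_of_le hi with rfl | h
      · infer_instance
      · exact (hp i h).1
    obtain ⟨s, t, e, he, him⟩ := exists_im M i₀ hx hi (lifts M b i₀ hb hp hx (b - i).toNat i (by omega) hi)
    refine ⟨t * s, fun z hz => ?_⟩
    obtain ⟨y, hy⟩ := him z
    exact ⟨y, by rw [hy, he z hz, smul_smul]; rfl⟩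
  choose! s hs using hi
  refine ⟨∏ i ∈ Finset.Icc i₀ b, s i, fun i hi z hz => ?_⟩
  by_cases hib : i ≤ b
  · obtain ⟨y, hy⟩ := hs i hi z hz
    have hm : i ∈ Finset.Icc i₀ b := Finset.mem_Icc.2 ⟨hi, hib⟩
    refine ⟨((∏ k ∈ (Finset.Icc i₀ b).erase i, s k : M) : A) • y, ?_⟩
    rw [map_smul, hy, smul_smul, ← Submonoid.coe_mul, Finset.prod_erase_mul _ _ hm]
  · haveI := ModuleCat.subsingleton_of_isZero (hb i (by omega))
    exact ⟨0, by rw [Subsingleton.elim z 0]; simp⟩

end Exact

end Groth.Agent.NearIso
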