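import Groth.Agent.NearIso.Alg
import Groth.Agent.DQCoh.AffinePerf
import Groth.Agent.PerfLocal.Perfect
import Mathlib.Algebra.Homology.DerivedCategory.HomologySequence

/-!
# A map inducing isomorphisms on high cohomology after localisation does so near the prime
-/

set_option autoImplicit false
set_option linter.style.haveILetI false
set_option backward.isDefEq.respectTransparency false
set_option backward.isDefEq.respectTransparency.types false
set_option maxHeartbeats 1000000

universe u w v

open CategoryTheory Limits DerivedCategory Pretriangulated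

attribute [local instance] HasDerivedCategory.standard

noncomputable section

namespace Groth.Agent.NearIso

variable {A : Type u} [CommRing A]

local notation "Hd" => DerivedCategory.homologyFunctor (ModuleCat A)

section Cone

variable {D : Type w} [Category.{v} D] [Abelian D] (G : ModuleCat.{u} A ⥤ D) [G.Additive]
  [PreservesFiniteLimits G] [PreservesFiniteColimits G] {P T : DRing.Cx A} (g : P ⟶ T) (c : ℤ)

/-- The cone of `g` loses its cohomology from `c - 1` on. -/
theorem isZero_cone (hg : ∀ i, c ≤ i → IsIso (G.map ((Hd i).map (DerivedCategory.Q.map g))))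
    (hT : IsZero (G.obj ((Hd (c - 1)).obj (DerivedCategory.Q.obj T)))) (i : ℤ) (hi : c - 1 ≤ i) :
    IsZero (G.obj ((Hd i).obj (DerivedCategory.Q.obj (CochainComplex.mappingCone g)))) := by
  have hd := mappingCone_triangle_distinguished g
  refine ((HomologySequence.exact₃ _ hd i (i + 1) rfl).map G).isZero_of_both_zeros ?_ ?_
  · rcases eq_or_lt_of_le hi with rfl | h
    · exact hT.eq_of_src _ _
    · haveI := hg i (by omega)
      rw [← cancel_epi (G.map ((Hd i).map (DerivedCategory.Q.map g))), comp_zero]
      exact (ShortComplex.map (ShortComplex.mk ((Hd i).map (DerivedCategory.Q.map g))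
        ((Hd i).map (DerivedCategory.Q.mapTriangle.obj (CochainComplex.mappingCone.triangle g)).mor₂)
        (by rw [← Functor.map_comp]; exact (congrArg (Hd i).map (comp_distTriang_mor_zero₁₂ _ hd)).trans ((Hd i).map_zero _ _))) G).zero
  · haveI := hg (i + 1) (by omega)
    rw [← cancel_mono (G.map ((Hd (i + 1)).map (DerivedCategory.Q.map g))), zero_comp]
    exact (ShortComplex.map (ShortComplex.mk _ _ (HomologySequence.δ_comp _ hd i (i + 1) rfl)) G).zero

theorem isIso_of_cone
    (hK : ∀ i, c - 1 ≤ i → IsZero (G.obj ((Hd i).obj (DerivedCategory.Q.obj (CochainComplex.mappingCone g)))))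
    (i : ℤ) (hi : c ≤ i) : IsIso (G.map ((Hd i).map (DerivedCategory.Q.map g))) := by
  have hd := mappingCone_triangle_distinguished g
  haveI : Mono (G.map ((Hd i).map (DerivedCategory.Q.map g))) :=
    ((HomologySequence.exact₁ _ hd (i - 1) i (by omega)).map G).mono_g ((hK (i - 1) (by omega)).eq_of_src _ _)
  haveI : Epi (G.map ((Hd i).map (DerivedCategory.Q.map g))) :=
    ((HomologySequence.exact₂ _ hd i).map G).epi_f ((hK i (by omega)).eq_of_tgt _ _)
  exact isIso_of_mono_of_epi _

end Cone

theorem cone_vanishesAbove {P T : DRing.Cx A} (g : P ⟶ T) {b : ℤ} (hP : DRing.VanishesAbove P b)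
    (hT : DRing.VanishesAbove T b) : DRing.VanishesAbove (CochainComplex.mappingCone g) b := fun i hi =>
  IsZero.of_iso ((biprod_isZero_iff _ _).2 ⟨hP (i + 1) (by omega), hT i hi⟩)
    (HomologicalComplex.homotopyCofiber.XIsoBiprod g i (i + 1) rfl)

theorem cone_finiteProjective {P T : DRing.Cx A} (g : P ⟶ T) (hP : DRing.TermwiseFiniteProjective P)
    (hT : DRing.TermwiseFiniteProjective T) : DRing.TermwiseFiniteProjective (CochainComplex.mappingCone g) := fun i => by
  haveI := (hP (i + 1)).1
  haveI := (hT i).1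
  haveI := (hP (i + 1)).2
  haveI := (hT i).2
  exact PerfLocal.finiteProjective_of_iso (HomologicalComplex.homotopyCofiber.XIsoBiprod g i (i + 1) rfl).symm
    (PerfLocal.finiteProjective_of_iso (ModuleCat.biprodIsoProd _ _).symm
      ⟨show Module.Finite A (P.X (i + 1) × T.X i) from inferInstance,
        show Module.Projective A (P.X (i + 1) × T.X i) from inferInstance⟩)

/-- The cohomology of a complex as cycles modulo boundaries. -/
def hIso (K : DRing.Cx A) (i : ℤ) :
    (Hd i).obj (DerivedCategory.Q.obj K) ≅ (K.sc' (i - 1) i (i + 1)).moduleCatLeftHomologyData.H :=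
  (homologyFunctorFactors (ModuleCat A) i).app K ≪≫ K.homologyIsoSc' (i - 1) i (i + 1) (by simp) (by simp) ≪≫
    (K.sc' (i - 1) i (i + 1)).moduleCatHomologyIso

theorem killed_class {K : DRing.Cx A} {i : ℤ} {t : A}
    (h : ∀ z : K.X i, (K.d i (i + 1)).hom z = 0 → ∃ y : K.X (i - 1), (K.d (i - 1) i).hom y = t • z)
    (x : (Hd i).obj (DerivedCategory.Q.obj K)) : t • x = 0 := by
  let S := K.sc' (i - 1) i (i + 1)
  refine (hIso K i).toLinearEquiv.injective ?_
  rw [map_smul, map_zero]
  obtain ⟨w, hw⟩ := Submodule.mkQ_surjective (LinearMap.range S.moduleCatToCycles) ((hIso K i).toLinearEquiv x)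
  obtain ⟨y, hy⟩ := h w.1 w.2
  rw [← hw]
  exact ((Submodule.mkQ (LinearMap.range S.moduleCatToCycles)).map_smul t w).symm.trans
    ((Submodule.Quotient.mk_eq_zero _).2 ⟨y, Subtype.ext hy⟩)

variable {R : Type u} [CommRing R] (φ : A →+* R) (M : Submonoid A)

theorem exists_kill_of_isZero (hloc : letI := φ.toAlgebra; IsLocalization M R) {H : ModuleCat.{u} A}
    (h : IsZero ((ext φ).obj H)) (x : H) : ∃ t : M, (t : A) • x = 0 := by
  haveI := isLocalizedModule_η φ M hloc H
  haveI := ModuleCat.subsingleton_of_isZero h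
  obtain ⟨t, ht⟩ := IsLocalizedModule.exists_of_eq (S := M) (f := η φ H) (x₁ := x) (x₂ := 0)
    (Subsingleton.elim (α := ((ext φ).obj H : Type u)) _ _)
  exact ⟨t, ht.trans (smul_zero _)⟩

theorem isZero_ext_of_kill (hloc : letI := φ.toAlgebra; IsLocalization M R) {H : ModuleCat.{u} A} (s : M)
    (h : ∀ x : H, (s : A) • x = 0) : IsZero ((ext φ).obj H) := by
  haveI := isLocalizedModule_η φ M hloc H
  haveI : Subsingleton ((ext φ).obj H : Type u) := ⟨fun v w => by
    suffices ∀ v : ((ext φ).obj H : Type u), v = 0 by rw [this v, this w]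
    intro v
    obtain ⟨⟨x, t⟩, hx⟩ := IsLocalizedModule.surj M (η φ H) v
    refine ((Module.End.isUnit_iff _).1 (IsLocalizedModule.map_units (η φ H) (t * s))).1 ?_
    rw [map_zero, Module.algebraMap_end_apply, Submonoid.coe_mul, mul_comm, mul_smul]
    exact (congrArg ((s : A) • ·) hx).trans ((map_smul _ _ _).symm.trans ((congrArg _ (h x)).trans (map_zero _)))⟩
  exact ModuleCat.isZero_of_subsingleton _

/-- Isomorphisms on high cohomology spread from a localisation. -/
theorem exists_elem {P T : DRing.Cx A} (g : P ⟶ T) (b c : ℤ) (hP : DRing.VanishesAbove P b)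
    (hT : DRing.VanishesAbove T b) (hPp : DRing.TermwiseFiniteProjective P) (hTp : DRing.TermwiseFiniteProjective T)
    (hloc : letI := φ.toAlgebra; IsLocalization M R) [PreservesFiniteLimits (ext φ)]
    (hg : ∀ i, c ≤ i → IsIso ((ext φ).map ((Hd i).map (DerivedCategory.Q.map g))))
    (hc : IsZero ((ext φ).obj ((Hd (c - 1)).obj (DerivedCategory.Q.obj T)))) :
    ∃ s : M, ∀ i, c - 1 ≤ i → ∀ x : (Hd i).obj (DerivedCategory.Q.obj (CochainComplex.mappingCone g)),
      (s : A) • x = 0 := by
  have hKp := cone_finiteProjective g hPp hTp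
  haveI := (hKp (c - 1)).1
  obtain ⟨s, hs⟩ := exists_annihilate M b (c - 1) (cone_vanishesAbove g hP hT) (fun i _ => hKp i) fun i hi z hz => by
    obtain ⟨t, ht⟩ : ∃ t : M, ∃ y, ((CochainComplex.mappingCone g).d (i - 1) i).hom y = (t : A) • z := by
      let S := (CochainComplex.mappingCone g).sc' (i - 1) i (i + 1)
      obtain ⟨t, ht⟩ := exists_kill_of_isZero φ M hloc (isZero_cone (ext φ) g c hg hc i hi)
        ((hIso _ i).inv.hom (Submodule.Quotient.mk (⟨z, hz⟩ : LinearMap.ker S.g.hom)))
      rw [← map_smul, ← Submodule.Quotient.mk_smul] at ht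
      have h1 : Submodule.Quotient.mk (p := LinearMap.range S.moduleCatToCycles) ((t : A) • (⟨z, hz⟩ : LinearMap.ker S.g.hom)) = 0 :=
        (hIso _ i).toLinearEquiv.symm.injective (ht.trans (map_zero _).symm)
      obtain ⟨y, hy⟩ := (Submodule.Quotient.mk_eq_zero _).1 h1
      exact ⟨t, y, congrArg Subtype.val hy⟩
    exact ⟨t, ht⟩
  exact ⟨s, fun i hi => killed_class (hs i hi)⟩

end Groth.Agent.NearIso
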