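import Groth.Agent.NearIso.Stalk
import Groth.Agent.QC.Localisation

/-!
# Pseudo-coherent complexes with isomorphic stalks are isomorphic nearby
-/

set_option autoImplicit false
set_option linter.style.haveILetI false
set_option backward.isDefEq.respectTransparency false
set_option backward.isDefEq.respectTransparency.types false
set_option maxHeartbeats 1000000

universe u

open CategoryTheory Limits AlgebraicGeometry DerivedCategory Pretriangulated
open Groth.Agent.DQCoh

attribute [local instance] HasDerivedCategory.standard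

noncomputable section

namespace Groth.Agent.NearIso

variable {X : Scheme.{u}}

/-- Approximations by complexes of modules over the coordinate ring of an affine open. -/
theorem exists_rep {V W : X.Opens} (hW : IsAffineOpen W) (hWV : W ≤ V) {G : CochainComplex X.Modules ℤ}
    {E₁ : CochainComplex (V : Scheme.{u}).Modules ℤ} {a b : ℤ} (hE : DCoh.VanishesOutside E₁ a b)
    (hloc : ∀ i, FlatMod.IsFinLocFree (E₁.X i))
    {α : DerivedCategory.Q.obj E₁ ⟶ DerivedCategory.Q.obj ((DCoh.restrictCx V).obj G)} {m : ℤ} (hα : MIsoD m α) :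
    ∃ (P : DRing.Cx Γ(X, W))
      (α' : DCoh.toD (Spec Γ(X, W)) (((tilde.functor Γ(X, W)).mapHomologicalComplex (ComplexShape.up ℤ)).obj P) ⟶
        (RD hW.fromSpec).obj (DCoh.toD X G)),
      DRing.VanishesOutside P a b ∧ DRing.TermwiseFiniteProjective P ∧ MIsoD m α' := by
  have hr : Set.range hW.fromSpec ⊆ Set.range V.ι := by
    rw [hW.range_fromSpec, Scheme.Opens.range_ι]
    exact hWV
  let k := IsOpenImmersion.lift V.ι hW.fromSpec hr
  have hk : k ≫ V.ι = hW.fromSpec := IsOpenImmersion.lift_fac _ _ _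
  haveI : IsOpenImmersion k := by
    haveI : IsOpenImmersion (k ≫ V.ι) := by rw [hk]; infer_instance
    exact IsOpenImmersion.of_comp k V.ι
  obtain ⟨P, a', b', hP, hPp, ⟨e⟩⟩ := exists_tilde_strictlyPerfect (A := Γ(X, W)) ((rC k).obj E₁)
    (isStrictlyPerfect_restrict k ⟨⟨a, b, hE⟩, hloc⟩)
  let e1 : DCoh.toD _ (((tilde.functor Γ(X, W)).mapHomologicalComplex (ComplexShape.up ℤ)).obj P) ≅
      (RD k).obj (DerivedCategory.Q.obj E₁) := DerivedCategory.Q.mapIso e ≪≫ (rdIso k E₁).symm
  let e2 : (RD k).obj (DerivedCategory.Q.obj ((DCoh.restrictCx V).obj G)) ≅ (RD hW.fromSpec).obj (DCoh.toD X G) :=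
    (RD k).mapIso (rdIso V.ι G).symm ≪≫ ((rdComp k V.ι).app _).symm ≪≫ (rdCongr hk).app _
  refine ⟨P, e1.hom ≫ (RD k).map α ≫ e2.hom, fun i hi => ?_, hPp, mIsoD_comp_iso e1 e2 (mIsoD_map _ hα)⟩
  have hz : IsZero ((tilde.functor Γ(X, W)).obj (P.X i)) :=
    IsZero.of_iso ((Scheme.Modules.restrictFunctor k).map_isZero (hE i hi))
      ((HomologicalComplex.eval _ _ i).mapIso e)
  rw [IsZero.iff_id_eq_zero] at hz ⊢
  exact (tilde.functor Γ(X, W)).map_injective (by rw [CategoryTheory.Functor.map_id, hz, Functor.map_zero])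

/-- The comparison of restriction with base change to a localisation. -/
def awayIso {A : CommRingCat.{u}} (s : A)
    [IsOpenImmersion (Spec.map (CommRingCat.ofHom (algebraMap A (Localization.Away s))))] :
    tilde.functor A ⋙ Scheme.Modules.restrictFunctor (Spec.map (CommRingCat.ofHom (algebraMap A (Localization.Away s)))) ≅
      ModuleCat.extendScalars.{u, u, u} (algebraMap A (Localization.Away s)) ⋙
        tilde.functor (CommRingCat.of (Localization.Away s)) :=
  Functor.isoWhiskerLeft _ (Scheme.Modules.restrictFunctorIsoPullback _) ≪≫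
    QC.pullbackTildeIso (CommRingCat.ofHom (algebraMap A (Localization.Away s)))

theorem exists_nhd (x : X) (E F : CochainComplex X.Modules ℤ) (c : ℤ)
    [(DCoh.toD X E).IsGE c] [(DCoh.toD X F).IsGE c]
    (hE : ∀ m : ℤ, DCoh.IsPseudoCoherentD m (DCoh.toD X E)) (hF : ∀ m : ℤ, DCoh.IsPseudoCoherentD m (DCoh.toD X F))
    (hx : Nonempty (DRing.toD (((DerSch.stalkFunctor X x).mapHomologicalComplex (ComplexShape.up ℤ)).obj E) ≅
      DRing.toD (((DerSch.stalkFunctor X x).mapHomologicalComplex (ComplexShape.up ℤ)).obj F))) :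
    ∃ U : X.Opens, x ∈ U ∧
      Nonempty (DerivedCategory.Q.obj ((DCoh.restrictCx U).obj E) ≅ DerivedCategory.Q.obj ((DCoh.restrictCx U).obj F)) := by
  obtain ⟨V₁, hx₁, h₁⟩ := hE (c - 2) x
  obtain ⟨E₁, α₁, ⟨⟨a, b₁, hv₁⟩, hl₁⟩, hα₁⟩ := h₁ E ⟨Iso.refl _⟩
  obtain ⟨V₂, hx₂, h₂⟩ := hF (min (c - 2) a) x
  obtain ⟨E₂, α₂, ⟨⟨a₂, b₂, hv₂⟩, hl₂⟩, hα₂⟩ := h₂ F ⟨Iso.refl _⟩
  obtain ⟨W, hW, hxW, hWV⟩ := exists_isAffineOpen_mem_and_subset (U := V₁ ⊓ V₂) (show x ∈ V₁ ⊓ V₂ from ⟨hx₁, hx₂⟩)
  obtain ⟨P, α, hP, hPp, hα⟩ := exists_rep hW (fun z hz => (hWV hz).1) hv₁ hl₁ hα₁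
  obtain ⟨T, β, hT, hTp, hβ⟩ := exists_rep hW (fun z hz => (hWV hz).2) hv₂ hl₂ hα₂
  obtain ⟨y, rfl⟩ : x ∈ Set.range hW.fromSpec.base := hW.range_fromSpec.ge hxW
  have hGE : ∀ {Y : Scheme.{u}} (j : Y ⟶ X) [IsOpenImmersion j] (K : DCoh.D X), K.IsGE c → ((RD j).obj K).IsGE c :=
    fun j _ K hK => (isGE_iff _ _).2 fun i hi =>
      IsZero.of_iso ((Scheme.Modules.restrictFunctor j).map_isZero (haveI := hK; isZero_of_isGE K c i hi))
        ((homologyDerIso (Scheme.Modules.restrictFunctor j) i).app K)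
  obtain ⟨ψ⟩ := nonempty_stalkTransport hW.fromSpec y E F hx
  obtain ⟨g, s, hs, hsK⟩ := exists_spread y (P := P) (T := T) (a := a) (b := max b₁ b₂)
    (fun i hi => hP i (by omega)) (fun i hi => hT i (by omega)) hPp hTp c (hGE _ _ inferInstance) α β hα hβ
    (by omega) (by omega) (min_le_right _ _) ψ
  let A := Γ(X, W)
  let σ : A →+* Localization.Away s := algebraMap A (Localization.Away s)
  let k := Spec.map (CommRingCat.ofHom σ)
  haveI : IsOpenImmersion k := IsOpenImmersion.of_isLocalization s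
  have hyk : y ∈ Set.range k := by
    rw [show Set.range k = (PrimeSpectrum.basicOpen s : Set (PrimeSpectrum A)) from
      PrimeSpectrum.localization_away_comap_range (Localization.Away s) s]
    exact hs
  obtain ⟨z, hz⟩ := hyk
  have hloc : letI := σ.toAlgebra; IsLocalization (Submonoid.powers s) (Localization.Away s) := by
    rw [show σ.toAlgebra = (inferInstance : Algebra A (Localization.Away s)) from Algebra.algebra_ext _ _ fun _ => rfl]
    infer_instance
  haveI : PreservesFiniteLimits (ext σ) :=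
    ModuleCat.preservesFiniteLimits_extendScalars_of_flat (by
      letI := σ.toAlgebra
      haveI := hloc
      exact IsLocalization.flat (Localization.Away s) (Submonoid.powers s))
  let G := tilde.functor (CommRingCat.of A) ⋙ Scheme.Modules.restrictFunctor k
  let nz := awayIso (A := A) s
  have hiso : ∀ i, c ≤ i → IsIso ((homologyFunctor _ i).map
      ((RD k).map (DerivedCategory.Q.map (((tilde.functor A).mapHomologicalComplex (ComplexShape.up ℤ)).map g)))) := fun i hi => by
    have h1 : IsIso ((ext σ ⋙ tilde.functor (CommRingCat.of (Localization.Away s))).map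
        ((homologyFunctor (ModuleCat A) i).map (DerivedCategory.Q.map g))) := by
      haveI := isIso_of_cone (ext σ) g c (fun i hi =>
        isZero_ext_of_kill σ (Submonoid.powers s) hloc ⟨s, Submonoid.mem_powers s⟩ (hsK i hi)) i hi
      rw [Functor.comp_map]
      infer_instance
    have h2 : IsIso ((Scheme.Modules.restrictFunctor k).map ((tilde.functor A).map
        ((homologyFunctor (ModuleCat A) i).map (DerivedCategory.Q.map g)))) := (NatIso.isIso_map_iff nz _).2 h1
    refine (NatIso.isIso_map_iff (homologyDerIso (Scheme.Modules.restrictFunctor k) i) _).2 ?_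
    rw [Functor.comp_map]
    have e : IsIso ((Scheme.Modules.restrictFunctor k).map ((homologyFunctor _ i).map
        ((tilde.functor A).mapDerivedCategory.map (DerivedCategory.Q.map g)))) :=
      (isIso_map_iff_of_comm (F := Scheme.Modules.restrictFunctor k) _ _
        ((homologyDerIso (tilde.functor A) i).app _) ((homologyDerIso (tilde.functor A) i).app _)
        ((homologyDerIso (tilde.functor A) i).hom.naturality (DerivedCategory.Q.map g))).2 h2
    exact (isIso_map_iff_of_comm (F := homologyFunctor _ i ⋙ Scheme.Modules.restrictFunctor k) _ _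
      ((tilde.functor A).mapDerivedCategoryFactors.app P) ((tilde.functor A).mapDerivedCategoryFactors.app T)
      ((tilde.functor A).mapDerivedCategoryFactors.hom.naturality g)).1 e
  have hα' := mIsoD_map (Scheme.Modules.restrictFunctor k) hα
  have hβ' := mIsoD_map (Scheme.Modules.restrictFunctor k) hβ
  obtain ⟨eE⟩ := nonempty_truncIso ((RD k).map α) c
    ((isGE_iff _ _).2 fun i hi => IsZero.of_iso ((Scheme.Modules.restrictFunctor k).map_isZero
      (haveI := hGE hW.fromSpec _ (inferInstance : (DCoh.toD X E).IsGE c); isZero_of_isGE _ c i hi))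
      ((homologyDerIso (Scheme.Modules.restrictFunctor k) i).app _))
    (fun i hi => hα'.1 i (by omega))
  obtain ⟨eF⟩ := nonempty_truncIso
    ((RD k).map (DerivedCategory.Q.map (((tilde.functor A).mapHomologicalComplex (ComplexShape.up ℤ)).map g)) ≫ (RD k).map β) c
    ((isGE_iff _ _).2 fun i hi => IsZero.of_iso ((Scheme.Modules.restrictFunctor k).map_isZero
      (haveI := hGE hW.fromSpec _ (inferInstance : (DCoh.toD X F).IsGE c); isZero_of_isGE _ c i hi))
      ((homologyDerIso (Scheme.Modules.restrictFunctor k) i).app _))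
    (fun i hi => by
      haveI := hiso i hi
      haveI := hβ'.1 i (by omega)
      rw [Functor.map_comp]
      infer_instance)
  let j := k ≫ hW.fromSpec
  obtain ⟨k', hk', hkj⟩ := exists_opens j
  haveI := hk'
  refine ⟨j.opensRange, ⟨z, by rw [show j.base z = hW.fromSpec.base (k.base z) from rfl, hz]⟩, ⟨?_⟩⟩
  refine (rdIso j.opensRange.ι E).symm ≪≫ (rdCongr hkj).symm.app _ ≪≫ (rdComp k' j).app _ ≪≫
    (RD k').mapIso ((rdComp k hW.fromSpec).app _ ≪≫ eE.symm ≪≫ eF ≪≫ ((rdComp k hW.fromSpec).app _).symm) ≪≫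
    ((rdComp k' j).app _).symm ≪≫ (rdCongr hkj).app _ ≪≫ rdIso j.opensRange.ι F

end Groth.Agent.NearIso
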