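import Groth.Agent.NearIso.Hom
import Groth.Agent.TildeKFlat.Main
import Groth.Agent.DQCoh.PCCalc
import Groth.Agent.KFlat.Pullback
import Groth.Agent.DRingKP.Pseudo
import Groth.Agent.PerfStalk.Main

/-!
# Complexes of sheaves on a spectrum with isomorphic stalk complexes
-/

set_option autoImplicit false
set_option linter.style.haveILetI false
set_option backward.isDefEq.respectTransparency false
set_option backward.isDefEq.respectTransparency.types false
set_option maxHeartbeats 1000000

universe u w v

open CategoryTheory Limits AlgebraicGeometry DerivedCategory Pretriangulated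
open Groth.Agent.DQCoh

attribute [local instance] HasDerivedCategory.standard

noncomputable section

namespace Groth.Agent.NearIso

theorem isIso_map_iff_of_comm {C D : Type*} [Category C] [Category D] {F : C ⥤ D} {X Y X' Y' : C} (f : X ⟶ Y)
    (g : X' ⟶ Y') (e : X ≅ X') (e' : Y ≅ Y') (h : f ≫ e'.hom = e.hom ≫ g) :
    IsIso (F.map f) ↔ IsIso (F.map g) := by
  rw [show g = e.inv ≫ f ≫ e'.hom by rw [h, e.inv_hom_id_assoc], F.map_comp, F.map_comp]
  simp only [isIso_comp_left_iff, isIso_comp_right_iff]

section Trunc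

variable {C : Type w} [Category.{v} C] [Abelian C] [HasDerivedCategory.{u} C]

/-- An object bounded below is the truncation of anything mapping to it isomorphically in high degrees. -/
theorem nonempty_truncIso {X Y : DerivedCategory C} (f : X ⟶ Y) (c : ℤ) (hY : Y.IsGE c)
    (hf : ∀ i, c ≤ i → IsIso ((homologyFunctor C i).map f)) :
    Nonempty ((TStructure.t.truncGE c).obj X ≅ Y) := by
  haveI := hY
  let d := TStructure.t.descTruncGE f c
  haveI : DerivedCategory.IsGE ((TStructure.t.truncGE c).obj X) c :=
    inferInstanceAs (TStructure.t.IsGE ((TStructure.t.truncGE c).obj X) c)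
  have : IsIso d := (DerivedCategory.isIso_iff C d).2 fun i => by
    by_cases hi : c ≤ i
    · haveI := hf i hi
      have hT := TStructure.t.triangleLTGE_distinguished c X
      have hLE : DerivedCategory.IsLE ((TStructure.t.truncLT c).obj X) (c - 1) :=
        TStructure.t.isLE_truncLT_obj X c (c - 1)
      haveI : Epi ((homologyFunctor C i).map ((TStructure.t.truncGEπ c).app X)) :=
        (HomologySequence.exact₃ _ hT i (i + 1) rfl).epi_f
          ((isZero_of_isLE _ (c - 1) (i + 1) (by omega)).eq_of_tgt _ _)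
      haveI : Mono ((homologyFunctor C i).map ((TStructure.t.truncGEπ c).app X)) :=
        (HomologySequence.exact₂ _ hT i).mono_g ((isZero_of_isLE _ (c - 1) i (by omega)).eq_of_src _ _)
      haveI := isIso_of_mono_of_epi ((homologyFunctor C i).map ((TStructure.t.truncGEπ c).app X))
      have e : (homologyFunctor C i).map f = (homologyFunctor C i).map ((TStructure.t.truncGEπ c).app X) ≫
          (homologyFunctor C i).map d := by
        rw [← Functor.map_comp, TStructure.t.π_descTruncGE f c]
      exact IsIso.of_isIso_fac_left e.symm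
    · exact (isZero_of_isGE _ c i (by omega)).isoZero.trans (isZero_of_isGE Y c i (by omega)).isoZero.symm |>
        fun e => by
          rw [(isZero_of_isGE _ c i (by omega)).eq_of_src ((homologyFunctor C i).map d) e.hom]
          infer_instance
  exact ⟨asIso d⟩

end Trunc

variable {A : CommRingCat.{u}}

/-- The stalk functor at a point of a spectrum, on derived categories. -/
abbrev SD (y : Spec A) : DCoh.D (Spec A) ⥤ Dual.D ((Spec A).presheaf.stalk y : Type u) :=
  (DerSch.stalkFunctor (Spec A) y).mapDerivedCategory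

/-- Stalks of `C~`. -/
def stTilde (y : Spec A) (C : DRing.Cx A) :
    (SD y).obj (DCoh.toD (Spec A) (((tilde.functor A).mapHomologicalComplex (ComplexShape.up ℤ)).obj C)) ≅
      DRing.toD ((extC (TildeKFlat.toStalkRing y)).obj C) :=
  (DerSch.stalkFunctor (Spec A) y).mapDerivedCategoryFactors.app _ ≪≫ DerivedCategory.Q.mapIso
    (HomologicalComplex.Hom.isoOfComponents (fun i => (asIso (TildeKFlat.cmp y)).symm.app (C.X i))
      fun p q _ => ((asIso (TildeKFlat.cmp y)).symm.hom.naturality (C.d p q)).symm)

theorem nonempty_stalkTransport {X : Scheme.{u}} (j : Spec A ⟶ X) [IsOpenImmersion j] (y : Spec A)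
    (E F : CochainComplex X.Modules ℤ)
    (hx : Nonempty (DRing.toD (((DerSch.stalkFunctor X (j.base y)).mapHomologicalComplex (ComplexShape.up ℤ)).obj E) ≅
      DRing.toD (((DerSch.stalkFunctor X (j.base y)).mapHomologicalComplex (ComplexShape.up ℤ)).obj F))) :
    Nonempty ((SD y).obj ((RD j).obj (DCoh.toD X E)) ≅ (SD y).obj ((RD j).obj (DCoh.toD X F))) := by
  obtain ⟨e⟩ := hx
  let er := ModuleCat.extendScalars.{u, u, u} (PerfStalk.ρ j y)
  haveI : er.IsEquivalence :=
    (ModuleCat.extendRestrictScalarsAdj (PerfStalk.ρ j y)).isEquivalence_left_of_isEquivalence_right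
  let n : Scheme.Modules.restrictFunctor j ⋙ DerSch.stalkFunctor (Spec A) y ≅ DerSch.stalkFunctor X (j.base y) ⋙ er :=
    Functor.isoWhiskerRight (Scheme.Modules.restrictFunctorIsoPullback j) _ ≪≫ KFlat.pullStalkIso j y
  let t : ∀ G : CochainComplex X.Modules ℤ, (SD y).obj ((RD j).obj (DCoh.toD X G)) ≅
      er.mapDerivedCategory.obj (DRing.toD (((DerSch.stalkFunctor X (j.base y)).mapHomologicalComplex (ComplexShape.up ℤ)).obj G)) :=
    fun G => (SD y).mapIso (rdIso j G) ≪≫ (DerSch.stalkFunctor (Spec A) y).mapDerivedCategoryFactors.app _ ≪≫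
      DerivedCategory.Q.mapIso (show
          ((DerSch.stalkFunctor (Spec A) y).mapHomologicalComplex (ComplexShape.up ℤ)).obj ((rC j).obj G) ≅
            (er.mapHomologicalComplex (ComplexShape.up ℤ)).obj
              (((DerSch.stalkFunctor X (j.base y)).mapHomologicalComplex (ComplexShape.up ℤ)).obj G) from
        HomologicalComplex.Hom.isoOfComponents (fun i => n.app (G.X i))
          fun p q _ => (n.hom.naturality (G.d p q)).symm) ≪≫ (er.mapDerivedCategoryFactors.app _).symm
  exact ⟨t E ≪≫ er.mapDerivedCategory.mapIso e ≪≫ (t F).symm⟩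

/-- The spreading of the isomorphism: an element and a chain map. -/
theorem exists_spread (y : Spec A) {P T : DRing.Cx A} {a b : ℤ} (hP : DRing.VanishesOutside P a b)
    (hT : DRing.VanishesAbove T b) (hPp : DRing.TermwiseFiniteProjective P) (hTp : DRing.TermwiseFiniteProjective T)
    {E F : DCoh.D (Spec A)} (c : ℤ) (hF : F.IsGE c)
    (α : DCoh.toD (Spec A) (((tilde.functor A).mapHomologicalComplex (ComplexShape.up ℤ)).obj P) ⟶ E)
    (β : DCoh.toD (Spec A) (((tilde.functor A).mapHomologicalComplex (ComplexShape.up ℤ)).obj T) ⟶ F)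
    {mE mF : ℤ} (hα : MIsoD mE α) (hβ : MIsoD mF β) (hmE : mE < c - 1) (hmF : mF < c - 1) (hmFa : mF ≤ a)
    (ψ : (SD y).obj E ≅ (SD y).obj F) :
    ∃ (g : P ⟶ T) (s : A), s ∉ y.asIdeal ∧ ∀ i, c - 1 ≤ i →
      ∀ x : (homologyFunctor (ModuleCat A) i).obj (DerivedCategory.Q.obj (CochainComplex.mappingCone g)), s • x = 0 := by
  let φ := TildeKFlat.toStalkRing y
  have hloc := PerfStalk.isLocalization_toStalkRing (A := A) y
  have hflat : φ.Flat := by
    letI := φ.toAlgebra
    haveI : IsLocalization y.asIdeal.primeCompl ((Spec A).presheaf.stalk y) := hloc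
    exact IsLocalization.flat ((Spec A).presheaf.stalk y) y.asIdeal.primeCompl
  haveI : PreservesFiniteLimits (ext φ) := ModuleCat.preservesFiniteLimits_extendScalars_of_flat hflat
  let P' := (extC φ).obj P
  let T' := (extC φ).obj T
  have hP' : DRing.VanishesOutside P' a b := fun i hi => (ext φ).map_isZero (hP i hi)
  haveI : ∀ i, CategoryTheory.Projective (P'.X i) := fun i =>
    haveI := DRingKP.projective_X hPp i
    (ModuleCat.extendRestrictScalarsAdj φ).map_projective (P.X i) inferInstance
  haveI : CochainComplex.IsStrictlyLE P' b :=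
    (CochainComplex.isStrictlyLE_iff P' b).2 fun i hi => hP' i (Or.inr hi)
  haveI : P'.IsKProjective := CochainComplex.isKProjective_of_projective P' b
  haveI : CochainComplex.IsStrictlyGE P' a :=
    (CochainComplex.isStrictlyGE_iff P' a).2 fun i hi => hP' i (Or.inl hi)
  let α' : DRing.toD P' ⟶ (SD y).obj E := (stTilde y P).inv ≫ (SD y).map α
  let β' : DRing.toD T' ⟶ (SD y).obj F := (stTilde y T).inv ≫ (SD y).map β
  have hα' : MIsoD mE α' := by
    have := mIsoD_comp_iso (stTilde y P).symm (Iso.refl _) (mIsoD_map (DerSch.stalkFunctor (Spec A) y) hα)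
    rwa [Iso.refl_hom, Category.comp_id] at this
  have hβ' : MIsoD mF β' := by
    have := mIsoD_comp_iso (stTilde y T).symm (Iso.refl _) (mIsoD_map (DerSch.stalkFunctor (Spec A) y) hβ)
    rwa [Iso.refl_hom, Category.comp_id] at this
  obtain ⟨C, u, v, hd⟩ := distinguished_cocone_triangle β'
  have hC : DRingKP.IsAbove a C := fun i hi => by
    have hI : mF < i + 1 := by omega
    haveI := hβ'.1 (i + 1) hI
    haveI : Epi ((homologyFunctor _ i).map β') := by
      rcases eq_or_lt_of_le (show mF ≤ i by omega) with h | h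
      · exact h ▸ hβ'.2
      · haveI := hβ'.1 i h
        infer_instance
    exact (HomologySequence.exact₃ _ hd i (i + 1) rfl).isZero_of_both_zeros
      ((cancel_epi ((homologyFunctor _ i).map β')).1 ((ShortComplex.mk ((homologyFunctor _ i).map β')
        ((homologyFunctor _ i).map u) (by
          rw [← Functor.map_comp]
          exact (congrArg _ (comp_distTriang_mor_zero₁₂ _ hd)).trans (Functor.map_zero _ _ _))).zero.trans comp_zero.symm))
      ((cancel_mono ((homologyFunctor _ (i + 1)).map β')).1
        ((HomologySequence.δ_comp _ hd i (i + 1) rfl).trans zero_comp.symm))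
  obtain ⟨θ, hθ⟩ := Triangle.coyoneda_exact₂ _ hd (α' ≫ ψ.hom) (DRingKP.hom_eq_zero a hC _)
  obtain ⟨ψ₀, rfl⟩ := PerfLocal.exists_lift (F := T') θ
  obtain ⟨s₀, g, hg⟩ := exists_chainMap φ y.asIdeal.primeCompl hloc P T a b hP hPp ψ₀
  obtain ⟨w, hw⟩ : IsUnit (φ (s₀ : A)) := by
    letI := φ.toAlgebra
    exact IsLocalization.map_units (M := y.asIdeal.primeCompl) ((Spec A).presheaf.stalk y) s₀
  let m : T' ≅ T' :=
    { hom := (w : (Spec A).presheaf.stalk y) • 𝟙 T'
      inv := ((w⁻¹ : ((Spec A).presheaf.stalk y)ˣ) : (Spec A).presheaf.stalk y) • 𝟙 T'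
      hom_inv_id := by rw [Linear.comp_smul, Linear.smul_comp, Category.comp_id, smul_smul, Units.inv_mul, one_smul]
      inv_hom_id := by rw [Linear.comp_smul, Linear.smul_comp, Category.comp_id, smul_smul, Units.mul_inv, one_smul] }
  have hgm : (extC φ).map g = ψ₀ ≫ m.hom := by
    ext i : 1
    refine ext_hom_ext φ fun x => ?_
    refine (hg i x).trans ?_
    rw [← hw]
    rfl
  have hiso : ∀ i, c ≤ i → IsIso ((homologyFunctor _ i).map (DerivedCategory.Q.map ((extC φ).map g))) := fun i hi => by
    rw [hgm, Functor.map_comp, Functor.map_comp]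
    haveI := hα'.1 i (by omega)
    haveI := hβ'.1 i (by omega)
    have e : (homologyFunctor _ i).map (DerivedCategory.Q.map ψ₀) ≫ (homologyFunctor _ i).map β' =
        (homologyFunctor _ i).map α' ≫ (homologyFunctor _ i).map ψ.hom := by
      rw [← Functor.map_comp, ← Functor.map_comp]
      exact congrArg _ hθ.symm
    haveI : IsIso ((homologyFunctor _ i).map (DerivedCategory.Q.map ψ₀)) := IsIso.of_isIso_fac_right e
    haveI : IsIso ((homologyFunctor _ i).map (DerivedCategory.Q.map m.hom)) :=
      ((homologyFunctor _ i).mapIso (DerivedCategory.Q.mapIso m)).isIso_hom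
    exact IsIso.comp_isIso
  have hcmp : ∀ i, IsIso ((ext φ).map ((homologyFunctor (ModuleCat A) i).map (DerivedCategory.Q.map g))) ↔
      IsIso ((homologyFunctor _ i).map (DerivedCategory.Q.map ((extC φ).map g))) := fun i => by
    refine Iff.trans ?_ (isIso_map_iff_of_comm (F := homologyFunctor _ i) ((ext φ).mapDerivedCategory.map (DerivedCategory.Q.map g))
      (DerivedCategory.Q.map ((extC φ).map g))
      ((ext φ).mapDerivedCategoryFactors.app P) ((ext φ).mapDerivedCategoryFactors.app T)
      ((ext φ).mapDerivedCategoryFactors.hom.naturality g))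
    exact (NatIso.isIso_map_iff (homologyDerIso (ext φ) i) (DerivedCategory.Q.map g)).symm
  have hz : IsZero ((ext φ).obj ((homologyFunctor (ModuleCat A) (c - 1)).obj (DerivedCategory.Q.obj T))) := by
    haveI := hβ'.1 (c - 1) hmF
    refine IsZero.of_iso ?_ (((homologyDerIso (ext φ) (c - 1)).app _).symm ≪≫
      (homologyFunctor _ (c - 1)).mapIso ((ext φ).mapDerivedCategoryFactors.app T) ≪≫
      asIso ((homologyFunctor _ (c - 1)).map β') ≪≫ (homologyDerIso (DerSch.stalkFunctor (Spec A) y) (c - 1)).app F)
    haveI := hF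
    exact (DerSch.stalkFunctor (Spec A) y).map_isZero (isZero_of_isGE F c (c - 1) (by omega))
  obtain ⟨s, hs⟩ := exists_elem φ y.asIdeal.primeCompl g b c (fun i hi => hP i (Or.inr hi)) hT hPp hTp hloc
    (fun i hi => (hcmp i).2 (hiso i hi)) hz
  exact ⟨g, s, s.2, hs⟩

end Groth.Agent.NearIso
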